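import Cfsg.Agent.SP.Mon.F3.N3
import Cfsg.Agent.SP.Mon.L3.Iface
import Cfsg.Agent.SP.Mon.NL.Fi24

/-! # S5755, the Monster, the prime 3: the boxes `Gam` and `AA` (helper30) -/

set_option autoImplicit false
set_option maxHeartbeats 200000
set_option maxRecDepth 100000

namespace Cfsg.Agent.SP.Mon.F3

open Subgroup Cfsg Equiv
open Cfsg.Spor (Fi24)
open Cfsg.Agent.LThreeMB
open Cfsg.Agent.BpSpor.MBigModel (MG)
open Cfsg.Agent.LThreeB.Row (TA)
open Cfsg.Agent.R08.FiTwentyFour (L finite_Fi24 ncard_L)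
open Cfsg.Agent.H841.Five (Phi Phi_injective)
open Cfsg.Agent.SP.Mon.NL

/-- the centraliser of an element of class `3A` maps onto `Fi₂₄'` -/
theorem exists_hom {x : MG} (h : T3A x) : ∃ (y c : MG) (ψ : centralizer ({y} : Set MG) →* Fi24), c * y * c⁻¹ = x ∧
    T3A y ∧ ψ.range = commutator Fi24 ∧ ψ.ker = Zx y := by
  obtain ⟨x', c, -, -, ⟨e⟩, hc⟩ := h.exists_in
  refine ⟨x', c, ((commutator Fi24).subtype.comp e.toMonoidHom).comp (QuotientGroup.mk' (Zx (x' : MG))), hc, ?_, ?_, ?_⟩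
  · have h1 := h.conj c⁻¹
    rwa [← hc, show c⁻¹ * (c * (x' : MG) * c⁻¹) * c⁻¹⁻¹ = x' by group] at h1
  · rw [MonoidHom.range_comp, MonoidHom.range_eq_top.2 (QuotientGroup.mk'_surjective _), ← MonoidHom.range_eq_map,
      MonoidHom.range_comp, MonoidHom.range_eq_top.2 e.surjective, ← MonoidHom.range_eq_map, range_subtype]
  · have hi : Function.Injective ((commutator Fi24).subtype.comp e.toMonoidHom) :=
      (commutator Fi24).subtype_injective.comp e.injective
    rw [← MonoidHom.comap_ker, (MonoidHom.ker_eq_bot_iff _).2 hi, MonoidHom.comap_bot, QuotientGroup.ker_mk']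

theorem card_Zx {y : MG} (h : T3A y) : Nat.card (Zx y) = 3 := by
  rw [Zx, Nat.card_zpowers, self, Subgroup.orderOf_mk, h.1]

theorem preimage_le {H Q : Type*} [Group H] [Group Q] [Finite H] [Finite Q] (ψ : H →* Q) (T : Set Q) :
    (ψ ⁻¹' T).ncard ≤ Nat.card ψ.ker * T.ncard := by
  have h1 := QuotientGroup.card_preimage_mk ψ.ker (QuotientGroup.kerLift ψ ⁻¹' T)
  have h2 : (QuotientGroup.mk ⁻¹' (QuotientGroup.kerLift ψ ⁻¹' T) : Set H) = ψ ⁻¹' T := rfl
  rw [h2, Nat.card_coe_set_eq, Nat.card_coe_set_eq] at h1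
  rw [h1]
  exact Nat.mul_le_mul_left _ (Set.ncard_le_ncard_of_injOn (QuotientGroup.kerLift ψ) (fun _ h => h)
    (QuotientGroup.kerLift_injective ψ).injOn (Set.toFinite _))

/-- **Box `Gam`.** -/
theorem boxGam : BoxGam := by
  intro x hx
  have := BpSpor.MBigModel.finite
  have := finite_Fi24
  rcases {y : MG | T3A y ∧ y * x = x * y}.eq_empty_or_nonempty with h0 | ⟨y0, hy0⟩
  · rw [h0, Set.ncard_empty]
    exact Nat.zero_le _
  obtain ⟨y, -, ψ, -, hy, -, hk⟩ := exists_hom hy0.1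
  have hx3 : x ^ 3 = 1 := by rw [← hx.order, pow_orderOf_eq_one]
  have h1 := pairs_le x y (A := {y : MG | T3A y ∧ y * x = x * y})
    (B := Subtype.val '' (ψ ⁻¹' {u : Fi24 | u ^ 3 = 1})) (fun a ha => ⟨ha.2, ha.1.isConj hy⟩) (fun c hc =>
      ⟨⟨c * x * c⁻¹, mem_centralizer_singleton_iff.2 hc⟩, by
        change ψ _ ^ 3 = 1
        rw [← map_pow, ← map_one ψ]
        congr 1
        apply Subtype.ext
        change (c * x * c⁻¹) ^ 3 = 1
        rw [conj_pow, hx3, mul_one, mul_inv_cancel], rfl⟩)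
  have h2 := preimage_le ψ {u : Fi24 | u ^ 3 = 1}
  rw [hk, card_Zx hy] at h2
  have h3 := (Set.ncard_le_ncard (Set.inter_subset_left (s := Subtype.val '' (ψ ⁻¹' {u : Fi24 | u ^ 3 = 1}))
    (t := {b | ∃ c : MG, c * x * c⁻¹ = b})) (Set.toFinite _)).trans ((Set.ncard_image_le (Set.toFinite _)).trans
      (h2.trans (Nat.mul_le_mul_left 3 n3_le)))
  have h4 := h1.trans (Nat.mul_le_mul h3 (Nat.le_of_dvd (by norm_num) hx.card_dvd))
  rw [hy.2] at h4
  exact Nat.le_of_mul_le_mul_right (h4.trans (by norm_num)) (by norm_num : 0 < 3 * 1255205709190661721292800)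

theorem not_ta' {y : MG} (ψ : centralizer ({y} : Set MG) →* Fi24) (hr : ψ.range = commutator Fi24)
    {u c : Perm (Fin 9)} (h7 : (u * (c * u * c⁻¹)) ^ 7 = 1) (h1 : u * (c * u * c⁻¹) ≠ 1)
    (hc : c = (u * c * u⁻¹ * c⁻¹) ^ 3) {t : centralizer ({y} : Set MG)} (hx : ψ t ∈ F24.orb (Phi u)) : ¬ TA (t : MG) := by
  intro h
  have := BpSpor.MBigModel.finite
  obtain ⟨k, hk, e⟩ := hx
  have hc' : Phi c ∈ commutator Fi24 := by
    rw [hc, map_pow, map_mul, map_mul, map_mul, map_inv, map_inv]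
    exact pow_mem (commutator_mem_commutator (mem_top _) (mem_top _)) 3
  have hg : k * Phi c * k⁻¹ ∈ ψ.range := by
    rw [hr]
    exact mul_mem (mul_mem hk hc') (inv_mem hk)
  obtain ⟨g, hg⟩ := hg
  have h3 := ta_mul_order h (ta_conj h g)
  have : Fact (Nat.Prime 7) := ⟨by norm_num⟩
  have h4 : ψ (t * (g * t * g⁻¹)) = k * Phi (u * (c * u * c⁻¹)) * k⁻¹ := by
    simp only [map_mul, map_inv]
    rw [hg, ← e]
    group
  have h5 := orderOf_map_dvd ψ (t * (g * t * g⁻¹))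
  rw [h4, ← MulAut.conj_apply, MulEquiv.orderOf_eq, orderOf_injective Phi Phi_injective, orderOf_eq_prime h7 h1,
    ← Subgroup.orderOf_coe] at h5
  have h6 := Nat.le_of_dvd (orderOf_pos _) h5
  exact absurd (h6.trans h3) (by norm_num)

/-- **Box `AA`.** -/
theorem boxAA : BoxAA := by
  intro x hx
  have := BpSpor.MBigModel.finite
  have := finite_Fi24
  classical
  obtain ⟨y, c, ψ, rfl, hy, hr, hk⟩ := exists_hom hx
  have e3 : F24.d 1 6 * F24.d 2 5 * F24.d 3 4 = Phi (swap 1 6 * swap 2 5 * swap 3 4) := by simp only [F24.d, map_mul]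
  have e4 : F24.d 1 6 * F24.d 2 5 * F24.d 3 4 * F24.d 7 8 = Phi (swap 1 6 * swap 2 5 * swap 3 4 * swap 7 8) := by
    simp only [F24.d, map_mul]
  have hm : ∀ t : MG, t * (c * y * c⁻¹) = (c * y * c⁻¹) * t → c⁻¹ * t * c⁻¹⁻¹ ∈ centralizer ({y} : Set MG) := by
    intro t ht
    rw [mem_centralizer_singleton_iff]
    calc c⁻¹ * t * c⁻¹⁻¹ * y = c⁻¹ * (t * (c * y * c⁻¹)) * c := by group
      _ = _ := by rw [ht]; group
  have hker : ∀ s : centralizer ({y} : Set MG), ψ s = 1 → s ^ 3 = 1 ∧ ∀ r, r * s = s * r := by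
    intro s hs
    have h1 : s ∈ Zx y := hk ▸ hs
    refine ⟨?_, mem_center_iff.1 (Zx_le_center y h1)⟩
    have h2 : (⟨s, h1⟩ : Zx y) ^ Nat.card (Zx y) = 1 := pow_card_eq_one'
    rw [card_Zx hy] at h2
    exact congrArg Subtype.val h2
  have hinj : ∀ s s' : centralizer ({y} : Set MG), s * s = 1 → s' * s' = 1 → ψ s = ψ s' → s = s' := by
    intro s s' h1 h2 e
    obtain ⟨k1, k2⟩ := hker (s⁻¹ * s') (by rw [map_mul, map_inv, e, inv_mul_cancel])
    obtain ⟨v, hv⟩ : ∃ v, v = s⁻¹ * s' := ⟨_, rfl⟩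
    rw [← hv] at k1 k2
    have e1 : s' = s * v := by rw [hv, mul_inv_cancel_left]
    have k3 : v * v = 1 := by
      rw [e1] at h2
      calc v * v = (s * s) * (v * v) := by rw [h1, one_mul]
        _ = s * (s * v) * v := by group
        _ = s * (v * s) * v := by rw [k2 s]
        _ = s * v * (s * v) := by group
        _ = 1 := h2
    rw [pow_three', k3, one_mul] at k1
    rw [e1, k1, mul_one]
  have hsq : ∀ s : centralizer ({y} : Set MG), TA (s : MG) → s * s = 1 := fun s hs => Subtype.ext (ta_sq hs)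
  refine le_trans (Set.ncard_le_ncard_of_injOn (t := L ∪ F24.orb (F24.d 1 6 * F24.d 2 5))
    (fun t => if h : t * (c * y * c⁻¹) = (c * y * c⁻¹) * t then ψ ⟨_, hm t h⟩ else 1) ?_ ?_ (Set.toFinite _))
    ((Set.ncard_union_le _ _).trans ((Nat.add_le_add ncard_L.le F24.orb_two).trans (by norm_num)))
  · rintro t ⟨ht, htc⟩
    have ht' : TA ((⟨_, hm t htc⟩ : centralizer ({y} : Set MG)) : MG) := ta_conj ht c⁻¹
    simp only [dif_pos htc]
    generalize (⟨_, hm t htc⟩ : centralizer ({y} : Set MG)) = s at ht'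
    have ho : orderOf (ψ s) = 2 := by
      refine order_two (by rw [pow_two, ← map_mul, hsq s ht', map_one]) fun e => ?_
      have h1 := hinj s 1 (hsq s ht') (mul_one 1) (e.trans (map_one ψ).symm)
      have h2 := ta_order ht'
      rw [h1, OneMemClass.coe_one, orderOf_one] at h2
      exact absurd h2 (by norm_num)
    rcases F24.cases ho with k | k | k | k
    · exact Or.inl k
    · exact Or.inr k
    · rw [e3] at k
      exact absurd ht' (not_ta' ψ hr (c := F24.c7) (by decide) (by decide) (by decide) k)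
    · rw [e4] at k
      exact absurd ht' (not_ta' ψ hr (c := F24.c7) (by decide) (by decide) (by decide) k)
  · rintro t ⟨ht, htc⟩ t' ⟨ht', htc'⟩ e
    simp only [dif_pos htc, dif_pos htc'] at e
    have h1 := hinj _ _ (hsq ⟨_, hm t htc⟩ (ta_conj ht c⁻¹)) (hsq ⟨_, hm t' htc'⟩ (ta_conj ht' c⁻¹)) e
    have h2 : c⁻¹ * t * c⁻¹⁻¹ = c⁻¹ * t' * c⁻¹⁻¹ := congrArg Subtype.val h1
    exact mul_left_cancel (mul_right_cancel h2)

end Cfsg.Agent.SP.Mon.F3
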