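import Mathlib

/-! # S5755, the Monster, the prime 3: counting lemmas (helper30) -/

set_option autoImplicit false
set_option maxHeartbeats 200000

namespace Cfsg.Agent.SP.Mon.F3

open Subgroup

variable {G : Type*} [Group G] [Finite G]

/-- the conjugates of `y` and `y⁻¹` -/
theorem cls_le {y : G} {N : Subgroup G} (hN : ∀ n ∈ N, n * y * n⁻¹ = y ∨ n * y * n⁻¹ = y⁻¹) {S : Set G}
    (hS : ∀ s ∈ S, ∃ g : G, g * s * g⁻¹ = y ∨ g * s * g⁻¹ = y⁻¹) : S.ncard * Nat.card N ≤ 2 * Nat.card G := by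
  classical
  choose! g hg using hS
  have key : ∀ s ∈ S, ∀ n ∈ N, (n * g s) * s * (n * g s)⁻¹ = y ∨ (n * g s) * s * (n * g s)⁻¹ = y⁻¹ := by
    intro s hs n hn
    have e : (n * g s) * s * (n * g s)⁻¹ = n * (g s * s * (g s)⁻¹) * n⁻¹ := by group
    rw [e]
    rcases hg s hs with h | h <;> rw [h]
    · exact hN n hn
    · have e2 : n * y⁻¹ * n⁻¹ = (n * y * n⁻¹)⁻¹ := by group
      rw [e2]
      rcases hN n hn with k | k <;> rw [k]
      · exact Or.inr rfl
      · exact Or.inl (inv_inv y)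
  let f : S × N → Bool × G := fun p => (decide ((p.2 * g p.1) * p.1 * (p.2 * g p.1)⁻¹ = y), p.2 * g p.1)
  have hf : Function.Injective f := by
    rintro ⟨⟨s, hs⟩, ⟨n, hn⟩⟩ ⟨⟨s', hs'⟩, ⟨n', hn'⟩⟩ e
    have e1 : n * g s = n' * g s' := congrArg Prod.snd e
    have e2 : ((n * g s) * s * (n * g s)⁻¹ = y) ↔ ((n' * g s') * s' * (n' * g s')⁻¹ = y) :=
      decide_eq_decide.1 (congrArg Prod.fst e)
    have e3 : (n * g s) * s * (n * g s)⁻¹ = (n' * g s') * s' * (n' * g s')⁻¹ := by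
      by_cases h : (n * g s) * s * (n * g s)⁻¹ = y
      · rw [h, e2.1 h]
      · rw [(key s hs n hn).resolve_left h, (key s' hs' n' hn').resolve_left (fun k => h (e2.2 k))]
    rw [← e1] at e3
    have e4 : s = s' := mul_left_cancel (mul_right_cancel e3)
    subst e4
    have e5 : n = n' := mul_right_cancel e1
    subst e5
    rfl
  have h1 := Nat.card_le_card_of_injective f hf
  rwa [Nat.card_prod, Nat.card_prod, Nat.card_eq_fintype_card (α := Bool), Fintype.card_bool, Nat.card_coe_set_eq] at h1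

theorem norm_cases {y n : G} (h3 : y ^ 3 = 1) (h1 : y ≠ 1) (hn : n ∈ normalizer ((zpowers y : Subgroup G) : Set G)) :
    n * y * n⁻¹ = y ∨ n * y * n⁻¹ = y⁻¹ := by
  classical
  have : Fact (Nat.Prime 3) := ⟨Nat.prime_three⟩
  have h2 : n * y * n⁻¹ ∈ zpowers y := (mem_normalizer_iff.1 hn y).1 (mem_zpowers y)
  rw [mem_zpowers_iff_mem_range_orderOf, orderOf_eq_prime h3 h1, Finset.mem_image] at h2
  obtain ⟨i, hi, e⟩ := h2
  rw [Finset.mem_range] at hi
  interval_cases i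
  · rw [pow_zero] at e
    exact absurd (conj_eq_one_iff.1 e.symm) h1
  · exact Or.inl (by rw [← e, pow_one])
  · right
    rw [← e]
    exact eq_inv_of_mul_eq_one_left (by rw [← pow_succ, h3])

/-- commuting pairs from two classes -/
theorem pairs_le (x y : G) {A B : Set G} (hA : ∀ a ∈ A, a * x = x * a ∧ ∃ c : G, c * y * c⁻¹ = a)
    (hB : ∀ c : G, (c * x * c⁻¹) * y = y * (c * x * c⁻¹) → c * x * c⁻¹ ∈ B) :
    A.ncard * Nat.card (centralizer ({y} : Set G)) ≤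
      (B ∩ {b | ∃ c : G, c * x * c⁻¹ = b}).ncard * Nat.card (centralizer ({x} : Set G)) := by
  classical
  have h1 : ∀ a ∈ A, ∃ c : G, c * y * c⁻¹ = a := fun a ha => (hA a ha).2
  choose! c hc using h1
  have h2 : ∀ b ∈ {b | ∃ c : G, c * x * c⁻¹ = b}, ∃ d : G, d * x * d⁻¹ = b := fun b hb => hb
  choose! d hd using h2
  have key : ∀ a ∈ A, ∀ u ∈ centralizer ({y} : Set G), (c a * u) * y * (c a * u)⁻¹ = a := by
    intro a ha u hu
    calc (c a * u) * y * (c a * u)⁻¹ = c a * (u * y) * u⁻¹ * (c a)⁻¹ := by group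
      _ = c a * y * (c a)⁻¹ := by rw [mem_centralizer_singleton_iff.1 hu]; group
      _ = a := hc a ha
  have hm : ∀ a ∈ A, ∀ u ∈ centralizer ({y} : Set G), (c a * u)⁻¹ * x * (c a * u)⁻¹⁻¹ ∈ B := by
    intro a ha u hu
    apply hB
    have k := key a ha u hu
    generalize c a * u = g at k
    have k2 := (hA a ha).1
    calc g⁻¹ * x * g⁻¹⁻¹ * y = g⁻¹ * (x * (g * y * g⁻¹)) * g := by group
      _ = g⁻¹ * ((g * y * g⁻¹) * x) * g := by rw [k, k2]
      _ = _ := by group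
  let f : A × centralizer ({y} : Set G) →
      (B ∩ {b | ∃ c : G, c * x * c⁻¹ = b} : Set G) × centralizer ({x} : Set G) := fun p =>
    (⟨(c p.1 * p.2)⁻¹ * x * (c p.1 * p.2)⁻¹⁻¹, hm _ p.1.2 _ p.2.2, _, rfl⟩,
      ⟨(c p.1 * p.2) * d ((c p.1 * p.2)⁻¹ * x * (c p.1 * p.2)⁻¹⁻¹), by
        rw [mem_centralizer_singleton_iff]
        have k := hd ((c p.1 * p.2)⁻¹ * x * (c p.1 * p.2)⁻¹⁻¹) ⟨_, rfl⟩
        generalize d ((c p.1 * p.2)⁻¹ * x * (c p.1 * p.2)⁻¹⁻¹) = e at k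
        generalize c p.1 * (p.2 : G) = g at k
        calc g * e * x = g * (e * x * e⁻¹) * e := by group
          _ = _ := by rw [k]; group⟩)
  have hf : Function.Injective f := by
    rintro ⟨⟨a, ha⟩, ⟨u, hu⟩⟩ ⟨⟨a', ha'⟩, ⟨u', hu'⟩⟩ e
    have e1 : (c a * u)⁻¹ * x * (c a * u)⁻¹⁻¹ = (c a' * u')⁻¹ * x * (c a' * u')⁻¹⁻¹ := congrArg (fun p => p.1.1) e
    have e2 : (c a * u) * d ((c a * u)⁻¹ * x * (c a * u)⁻¹⁻¹) =
        (c a' * u') * d ((c a' * u')⁻¹ * x * (c a' * u')⁻¹⁻¹) := congrArg (fun p => p.2.1) e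
    rw [e1] at e2
    have e3 : c a * u = c a' * u' := mul_right_cancel e2
    have e4 : a = a' := by rw [← key a ha u hu, ← key a' ha' u' hu', e3]
    subst e4
    have e5 : u = u' := mul_left_cancel e3
    subst e5
    rfl
  have h3 := Nat.card_le_card_of_injective f hf
  rwa [Nat.card_prod, Nat.card_prod, Nat.card_coe_set_eq, Nat.card_coe_set_eq] at h3

end Cfsg.Agent.SP.Mon.F3
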