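import Cfsg.Agent.SP.Mon.F3.Gen
import Cfsg.Agent.DS.Sp.F24SB

/-! # S5755, the Monster, the prime 3: the number of elements of order three of `Fi₂₄` (helper30) -/

set_option autoImplicit false
set_option maxHeartbeats 200000
set_option maxRecDepth 100000

namespace Cfsg.Agent.SP.Mon.F3

open Subgroup Cfsg
open Cfsg.Spor (Fi24)
open Cfsg.Agent.R08.FiTwentyFour (L finite_Fi24)
open Cfsg.Agent.Fischer.Fi24Rep
open Cfsg.Agent.H842.ThreeCl (X)
open Cfsg.Agent.H49.Four.TEight (fgroup24 fgroup24' isT8)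
open Cfsg.Agent.H840.Lk (zc c2 Clk Cc gen_mem not_comm_lk zc_mem c2_mem nc_zc2 card_conj)
open Cfsg.Agent.H840.NormX (fd)
open Cfsg.Agent.DS.Sp.F24S

section gen

variable {G : Type*} [Group G] [Finite G]

theorem two_mul_le {Y : Subgroup G} {x a : G} (hx : x ∈ Y) (h : ¬ Commute x a) :
    2 * Nat.card (Y ⊓ centralizer ({a} : Set G) : Subgroup G) ≤ Nat.card Y := by
  rw [card_conj Y a]
  refine Nat.mul_le_mul_right _ ?_
  have h1 : a ≠ x * a * x⁻¹ := fun e => h (mul_inv_eq_iff_eq_mul.1 e.symm)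
  rw [← Set.ncard_pair h1]
  refine Set.ncard_le_ncard ?_ (Set.toFinite _)
  rintro _ (rfl | rfl)
  · exact ⟨1, one_mem _, by group⟩
  · exact ⟨x, hx, rfl⟩

theorem three_mul_le {Y : Subgroup G} {x a : G} (hx : x ∈ Y) (h3 : x ^ 3 = 1) (h : ¬ Commute x a) :
    3 * Nat.card (Y ⊓ centralizer ({a} : Set G) : Subgroup G) ≤ Nat.card Y := by
  rw [card_conj Y a]
  refine Nat.mul_le_mul_right _ ?_
  refine (Set.two_lt_ncard_iff (Set.toFinite _)).2 ⟨a, x * a * x⁻¹, x⁻¹ * a * x⁻¹⁻¹, ⟨1, one_mem _, by group⟩,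
    ⟨x, hx, rfl⟩, ⟨x⁻¹, inv_mem hx, rfl⟩, fun e => h (mul_inv_eq_iff_eq_mul.1 e.symm), fun e => h ?_, fun e => h ?_⟩
  · exact Commute.inv_left_iff.1 (mul_inv_eq_iff_eq_mul.1 e.symm)
  · have h1 : x * x = x⁻¹ := eq_inv_of_mul_eq_one_left (by rw [← h3, pow_three'])
    have h2 : Commute (x * x) a := by
      change x * x * a = a * (x * x)
      calc x * x * a = x * (x * a * x⁻¹) * x := by group
        _ = _ := by rw [e]; group
    rw [h1] at h2
    exact Commute.inv_left_iff.1 h2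

end gen

/-- the normaliser of `⟨y⟩` -/
abbrev NZ (y : Fi24) : Subgroup Fi24 := normalizer ((zpowers y : Subgroup Fi24) : Set Fi24)

/-- the elements of order three of the class `i` -/
def SS (i : Fin 5) : Set Fi24 := {y | y ^ 3 = 1 ∧ y ≠ 1 ∧ Cl i y}

theorem SS_le {i : Fin 5} {n : ℕ} (h : ∀ y ∈ SS i, ∃ y0 ∈ SS i, n ≤ Nat.card (NZ y0)) :
    (SS i).ncard * n ≤ 2 * 2510411418381323442585600 := by
  have := finite_Fi24
  rcases (SS i).eq_empty_or_nonempty with h0 | ⟨y, hy⟩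
  · rw [h0, Set.ncard_empty, zero_mul]
    exact Nat.zero_le _
  obtain ⟨y0, ⟨h3, h1, k, hk⟩, hn⟩ := h y hy
  rw [← card_F]
  refine (Nat.mul_le_mul_left _ hn).trans (cls_le (y := y0) (fun n hn => norm_cases h3 h1 hn) ?_)
  rintro s ⟨-, -, g, hg⟩
  refine ⟨k⁻¹ * g, ?_⟩
  have e : k⁻¹ * g * s * (k⁻¹ * g)⁻¹ = k⁻¹ * (g * s * g⁻¹) * k := by group
  rw [e]
  rcases hk with hk | hk <;> rcases hg with hg | hg <;> rw [hg]
  · left; rw [← hk]; group
  · right; rw [← hk]; group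
  · right; rw [← inv_inv (X i), ← hk]; group
  · left; rw [← hk]; group

theorem SS0 : (SS 0).ncard * 29713078886400 ≤ 2 * 2510411418381323442585600 := by
  have := finite_Fi24
  refine SS_le fun _ _ => ⟨gen .l * gen .k, ⟨H840.NormX.cube (fd fgroup24) (gen_mem .l) (gen_mem .k) not_comm_lk, ?_,
    1, Or.inl ?_⟩, ?_⟩
  · intro e
    have h := H840.NormX.orderOf_mul (fd fgroup24) (gen_mem .l) (gen_mem .k) not_comm_lk
    rw [e, orderOf_one] at h
    exact absurd h (by norm_num)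
  · rw [one_mul, inv_one, mul_one]
    rfl
  · rw [← H840.Lk.card_Clk]
    refine card_le_of_le (le_trans (fun g hg => ?_) (cent_le_norm _))
    rw [H840.Lk.mem_Clk] at hg
    exact mem_centralizer_singleton_iff.2 (Commute.mul_right (show Commute g _ from hg.1) hg.2)

theorem SS1 : (SS 1).ncard * (26127360 * 3 ^ 7) ≤ 2 * 2510411418381323442585600 := by
  refine SS_le fun y hy => ⟨y, hy, ?_⟩
  obtain ⟨h3, h1, g, hg⟩ := hy
  obtain ⟨A, -, k2, -, -, -, k4, hn, ⟨e⟩⟩ := H841.Sev.exists_A_six (MulEquiv.refl Fi24) (by simp) fgroup24 isT8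
    (zpowers y) (card_zp h3 h1) (H48.OreFi.NineA.width_of hg)
  have k5 : A.relIndex (NZ y) = 26127360 := by
    rw [← H49.Four.NineSix.card_O6, ← Nat.card_congr e.toEquiv]
    rfl
  rw [card_eq_mul k4, k2, k5]

theorem SS2 : (SS 2).ncard * (3 ^ 11 * (2 * (2 * 13685760))) ≤ 2 * 2510411418381323442585600 := by
  refine SS_le fun y hy => ⟨y, hy, ?_⟩
  obtain ⟨φ, hφ, k1, -⟩ := cl2 hy.2.2
  rw [← H841.Tri.card_NX, Nat.card_congr (φ.ofInjective hφ).toEquiv, k1]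

theorem SS3 : (SS 3).ncard * 612220032 ≤ 2 * 2510411418381323442585600 :=
  SS_le fun y hy => ⟨y, hy, (cl3 hy.1 hy.2.1 hy.2.2).1.ge⟩

open Cfsg.Agent.H48.WFour in
theorem card_NZ_w : 2 * (3 * (3 * 4245696)) ≤ Nat.card (NZ w) := by
  have := finite_Fi24
  have hfd := fd fgroup24
  have sl := hfd.sq _ (gen_mem .l)
  have sz := hfd.sq _ zc_mem
  have e1 : (gen .l * zc) * w * (gen .l * zc)⁻¹ = w⁻¹ := by
    have a1 : gen .l * (gen .l * gen .k) * (gen .l)⁻¹ = (gen .l * gen .k)⁻¹ := by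
      rw [H840.NormX.inv_mul hfd (gen_mem .l) (gen_mem .k), ← mul_assoc, sl, one_mul, inv_eq_of_mul_eq_one_left sl]
    have a2 : zc * (zc * c2) * zc⁻¹ = (zc * c2)⁻¹ := by
      rw [H840.NormX.inv_mul hfd zc_mem c2_mem, ← mul_assoc, sz, one_mul, inv_eq_of_mul_eq_one_left sz]
    have a3 : Commute zc (gen .l * gen .k) := (lz.mul_left kz).symm
    have a4 : Commute (gen .l) (zc * c2)⁻¹ := (lz.mul_right lc).inv_right
    rw [w_eq]
    calc gen .l * zc * (gen .l * gen .k * (zc * c2)) * (gen .l * zc)⁻¹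
        = gen .l * (zc * (gen .l * gen .k)) * (zc * c2) * zc⁻¹ * (gen .l)⁻¹ := by group
      _ = gen .l * (gen .l * gen .k) * (zc * (zc * c2) * zc⁻¹) * (gen .l)⁻¹ := by rw [a3.eq]; group
      _ = (gen .l * (gen .l * gen .k) * (gen .l)⁻¹) * (gen .l * (zc * c2)⁻¹) * (gen .l)⁻¹ := by rw [a2]; group
      _ = (gen .l * gen .k)⁻¹ * (zc * c2)⁻¹ := by rw [a1, a4.eq]; group
      _ = _ := by rw [← mul_inv_rev, comm_AB.eq]
  have hi : w⁻¹ ≠ w := by
    intro e
    apply w_ne_one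
    have h2 : w * w = 1 := by nth_rewrite 1 [← e]; exact inv_mul_cancel w
    rw [← w3, pow_three', h2, one_mul]
  have m1 : gen .l * zc ∈ NZ w := by
    refine mem_normalizer_fintype ?_
    rintro _ ⟨n, rfl⟩
    change gen .l * zc * w ^ n * (gen .l * zc)⁻¹ ∈ zpowers w
    rw [← conj_zpow, e1]
    exact zpow_mem (inv_mem (mem_zpowers w)) n
  have s1 := two_mul_le m1 (a := w) (fun e => hi (by rw [← e1, e.eq, mul_inv_cancel_right]))
  have hw : ∀ g, Commute g w → g ∈ NZ w ⊓ centralizer ({w} : Set Fi24) := fun g hg =>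
    ⟨cent_le_norm w (mem_centralizer_singleton_iff.2 hg), mem_centralizer_singleton_iff.2 hg⟩
  have s2 := three_mul_le (hw w (Commute.refl w)) w3 (width (gen_mem .l))
  have m3 : zc * c2 ∈ NZ w ⊓ centralizer ({w} : Set Fi24) ⊓ centralizer ({gen .l} : Set Fi24) :=
    ⟨hw _ (by rw [w_eq]; exact comm_AB.symm.mul_right (Commute.refl _)),
      mem_centralizer_singleton_iff.2 (lz.mul_right lc).symm⟩
  have s3 := three_mul_le m3 (H840.NormX.cube hfd zc_mem c2_mem nc_zc2) (a := zc) (fun e => nc_zc2 (by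
    have h5 := (Commute.refl zc).inv_left.mul_left e
    rw [inv_mul_cancel_left] at h5
    exact h5.symm))
  have s4 : 4245696 ≤ Nat.card (NZ w ⊓ centralizer ({w} : Set Fi24) ⊓ centralizer ({gen .l} : Set Fi24) ⊓
      centralizer ({zc} : Set Fi24) : Subgroup Fi24) := by
    rw [← H840.Lk.card_Cc, ← H840.M500.cent_lkzc]
    refine card_le_of_le fun g hg => ?_
    obtain ⟨k1, k2, k3, k4⟩ := mem_cent4.1 hg
    exact ⟨⟨hw g (by rw [w_eq]; exact ((k1.mul_left k2).mul_left (k3.mul_left k4)).symm),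
      mem_centralizer_singleton_iff.2 k1.symm⟩, mem_centralizer_singleton_iff.2 k3.symm⟩
  omega

theorem SS4 : (SS 4).ncard * (2 * (3 * (3 * 4245696))) ≤ 2 * 2510411418381323442585600 :=
  SS_le fun _ _ => ⟨H48.WFour.w, ⟨H48.WFour.w3, H48.WFour.w_ne_one, H48.WFour.w_X⟩, card_NZ_w⟩

/-- **The solutions of `y ^ 3 = 1` in `Fi₂₄`.** -/
theorem n3_le : {y : Fi24 | y ^ 3 = 1}.ncard ≤ 75 * 10 ^ 15 := by
  have := finite_Fi24
  have h : {y : Fi24 | y ^ 3 = 1} ⊆ {1} ∪ (SS 0 ∪ (SS 1 ∪ (SS 2 ∪ (SS 3 ∪ SS 4)))) := by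
    intro y hy
    by_cases h1 : y = 1
    · exact Or.inl h1
    obtain ⟨i, hi⟩ := cl_all hy h1
    right
    fin_cases i
    · exact Or.inl ⟨hy, h1, hi⟩
    · exact Or.inr (Or.inl ⟨hy, h1, hi⟩)
    · exact Or.inr (Or.inr (Or.inl ⟨hy, h1, hi⟩))
    · exact Or.inr (Or.inr (Or.inr (Or.inl ⟨hy, h1, hi⟩)))
    · exact Or.inr (Or.inr (Or.inr (Or.inr ⟨hy, h1, hi⟩)))
  have h1 := Set.ncard_le_ncard h (Set.toFinite _)
  have u0 := Set.ncard_union_le ({1} : Set Fi24) (SS 0 ∪ (SS 1 ∪ (SS 2 ∪ (SS 3 ∪ SS 4))))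
  have u1 := Set.ncard_union_le (SS 0) (SS 1 ∪ (SS 2 ∪ (SS 3 ∪ SS 4)))
  have u2 := Set.ncard_union_le (SS 1) (SS 2 ∪ (SS 3 ∪ SS 4))
  have u3 := Set.ncard_union_le (SS 2) (SS 3 ∪ SS 4)
  have u4 := Set.ncard_union_le (SS 3) (SS 4)
  rw [Set.ncard_singleton] at u0
  have key : ∀ {a n b : ℕ}, a * n ≤ 2 * 2510411418381323442585600 → 2 * 2510411418381323442585600 < (b + 1) * n →
      a ≤ b := fun h1 h2 => Nat.lt_succ_iff.1 (Nat.lt_of_mul_lt_mul_right (h1.trans_lt h2))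
  have k0 := key (b := 200000000000000) SS0 (by norm_num)
  have k1 := key (b := 200000000000000) SS1 (by norm_num)
  have k2 := key (b := 200000000000000) SS2 (by norm_num)
  have k3 := key (b := 8300000000000000) SS3 (by norm_num)
  have k4 := key (b := 65800000000000000) SS4 (by norm_num)
  have e : 75 * 10 ^ 15 = 75000000000000000 := by norm_num
  rw [e]
  omega

end Cfsg.Agent.SP.Mon.F3
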